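import Groth.Agent.GrothVan.Main

/-!
# Vanishing above the dimension of the support
-/

set_option autoImplicit false
set_option backward.isDefEq.respectTransparency false

universe u

open CategoryTheory CategoryTheory.Limits TopologicalSpace Opposite

noncomputable section

namespace Groth.Agent.GrothVan

variable {X : TopCat.{u}}

lemma height_le_of_subset {C : Set X} (hC : IsClosed C) {d : ℕ} (hd : topologicalKrullDim C ≤ d)
    (Z : IrreducibleCloseds X) (hZ : (Z : Set X) ⊆ C) : Order.height Z ≤ (d : ℕ∞) := by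
  rw [Order.height_le_iff]
  intro p hp
  have hsub : ∀ i, (p i : Set X) ⊆ C := fun i =>
    (le_trans (SetLike.coe_subset_coe.2 ((p.monotone (Fin.le_last i)).trans hp)) hZ)
  let res : ∀ i, IrreducibleCloseds C := fun i =>
    ⟨Subtype.val ⁻¹' (p i : Set X), ⟨by
        obtain ⟨x, hx⟩ := (p i).isIrreducible.nonempty
        exact ⟨⟨x, hsub i hx⟩, hx⟩, by
        rintro u v ⟨u', hu', rfl⟩ ⟨v', hv', rfl⟩ ⟨a, ha, ha'⟩ ⟨b, hb, hb'⟩
        obtain ⟨c, hc, hc'⟩ := (p i).isIrreducible.2 u' v' hu' hv' ⟨a.1, ha, ha'⟩ ⟨b.1, hb, hb'⟩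
        exact ⟨⟨c, hsub i hc⟩, hc, hc'⟩⟩, (p i).isClosed.preimage continuous_subtype_val⟩
  have hmono : StrictMono res := fun i j hij => by
    have h := SetLike.coe_ssubset_coe.2 (p.strictMono hij)
    refine SetLike.coe_ssubset_coe.1 ⟨fun x hx => h.1 hx, fun hle => h.2 fun x hx => ?_⟩
    exact hle (show (⟨x, hsub j hx⟩ : C) ∈ (res j : Set C) from hx)
  have hlen := (Order.LTSeries.length_le_krullDim (LTSeries.mk p.length res hmono)).trans hd
  exact ENat.coe_le_coe.2 (by exact_mod_cast hlen)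

variable [NoetherianSpace X]

/-- Vanishing for sheaves supported in a closed set of dimension at most `d`. -/
theorem subsingleton_H_of_support (F : CohTop.Ab X) {C : Set X} (hC : IsClosed C)
    (hF : ∀ x ∉ C, Subsingleton (TopCat.Presheaf.stalk (X := X) F.obj x : AddCommGrpCat.{u})) {d : ℕ}
    (hd : topologicalKrullDim C ≤ d) {p : ℕ} (hp : d < p) : Subsingleton (CohTop.H F p) := by
  refine subsingleton_H (d + 1) F (fun Z hZ U h s => ?_) p hp
  let V : Opens X := U ⊓ ⟨Cᶜ, hC.isOpen_compl⟩
  by_cases hV : Meets V Z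
  · rw [← germZ_res (inf_le_left : V ≤ U) hV s]
    have : F.obj.map (homOfLE (inf_le_left : V ≤ U)).op s = 0 := by
      refine TopCat.Presheaf.section_ext F V _ _ fun x hx => ?_
      exact @Subsingleton.elim _ (hF x hx.2) _ _
    rw [this, map_zero]
  · refine absurd hZ (not_le.2 ((height_le_of_subset hC hd Z ?_).trans_lt (ENat.coe_lt_coe.2 (Nat.lt_succ_self d))))
    refine (subset_closure_inter_of_isPreirreducible_of_isOpen Z.isIrreducible.2 U.2 h).trans
      ((closure_mono fun x hx => ?_).trans hC.closure_subset)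
    by_contra hxC
    exact hV ⟨x, hx.1, hx.2, hxC⟩

end Groth.Agent.GrothVan
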