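import Groth.Agent.GrothVan.Germ

/-!
# Finitely supported families of germs along irreducible closed sets of a given height
-/

set_option autoImplicit false
set_option backward.isDefEq.respectTransparency false

universe u

open CategoryTheory CategoryTheory.Limits TopologicalSpace Opposite

noncomputable section

namespace Groth.Agent.GrothVan

variable {X : TopCat.{u}} (F : TopCat.Sheaf AddCommGrpCat.{u} X) (k : ℕ)

variable (X) in
/-- Irreducible closed sets of height `k`. -/
abbrev Lev : Type u := {Z : IrreducibleCloseds X // Order.height Z = (k : ℕ∞)}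

/-- All germs along sets of height at least `k` vanish. -/
def Sp : Prop :=
  ∀ (Z : IrreducibleCloseds X), (k : ℕ∞) ≤ Order.height Z →
    ∀ (U : Opens X) (h : Meets U Z) (s : F.obj.obj (op U)), germZ F Z U h s = 0

/-- Finitely supported families. -/
def fam (U : Opens X) : AddSubgroup (∀ Z : Lev X k, FZ F Z.1) where
  carrier := {f | {Z | f Z ≠ 0}.Finite ∧ ∀ Z, ¬ Meets U Z.1 → f Z = 0}
  zero_mem' := ⟨by simp, fun _ _ => rfl⟩
  add_mem' {f g} hf hg := ⟨(hf.1.union hg.1).subset fun Z hZ => by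
      by_contra hc
      simp only [Set.mem_union, Set.mem_setOf_eq, not_or, not_not] at hc
      exact hZ (by rw [Pi.add_apply, hc.1, hc.2, add_zero]),
    fun Z hZ => by rw [Pi.add_apply, hf.2 Z hZ, hg.2 Z hZ, add_zero]⟩
  neg_mem' {f} hf := ⟨hf.1.subset fun Z hZ => by
      intro hc
      exact hZ (by rw [Pi.neg_apply, hc, neg_zero]),
    fun Z hZ => by rw [Pi.neg_apply, hf.2 Z hZ, neg_zero]⟩

variable {F k}

open Classical in
/-- Truncation to the sets meeting `V`. -/
def famRes (U V : Opens X) : fam F k U →+ fam F k V where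
  toFun f := ⟨fun Z => if Meets V Z.1 then f.1 Z else 0,
    f.2.1.subset fun Z hZ => by
      intro hc
      apply hZ
      simp [hc],
    fun Z hZ => if_neg hZ⟩
  map_zero' := Subtype.ext (funext fun Z => by simp)
  map_add' f g := Subtype.ext (funext fun Z => by
    by_cases h : Meets V Z.1 <;> simp [h])

open Classical in
lemma famRes_apply {U V : Opens X} (f : fam F k U) (Z : Lev X k) :
    (famRes U V f).1 Z = if Meets V Z.1 then f.1 Z else 0 := rfl

lemma famRes_surjective {U V : Opens X} (hle : V ≤ U) : Function.Surjective (famRes (F := F) (k := k) U V) := by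
  intro g
  refine ⟨⟨g.1, g.2.1, fun Z hZ => g.2.2 Z fun h => hZ (h.mono hle)⟩, Subtype.ext (funext fun Z => ?_)⟩
  rw [famRes_apply]
  split_ifs with h
  · rfl
  · exact (g.2.2 Z h).symm

variable (F k)

/-- The presheaf of finitely supported families. -/
def famPre : TopCat.Presheaf AddCommGrpCat.{u} X where
  obj U := AddCommGrpCat.of (fam F k U.unop)
  map {U V} _ := AddCommGrpCat.ofHom (famRes U.unop V.unop)
  map_id U := by
    ext f Z
    show (famRes _ _ f).1 Z = f.1 Z
    rw [famRes_apply]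
    split_ifs with h
    · rfl
    · exact (f.2.2 Z h).symm
  map_comp {U V W} i j := by
    ext f Z
    show (famRes _ _ f).1 Z = (famRes _ _ (famRes _ _ f)).1 Z
    rw [famRes_apply, famRes_apply, famRes_apply]
    split_ifs with h1 h2
    · rfl
    · exact absurd (h1.mono j.unop.le) h2
    · rfl

variable [NoetherianSpace X]

open Classical in
lemma isSheaf_famPre : (famPre F k).IsSheaf := by
  rw [TopCat.Presheaf.isSheaf_iff_isSheafUniqueGluing]
  intro ι U sf hsf
  obtain ⟨t, ht⟩ := (NoetherianSpace.isCompact ((iSup U : Opens X) : Set X)).elim_finite_subcover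
    (fun i => (U i : Set X)) (fun i => (U i).2) (by rw [Opens.coe_iSup])
  have hcov : ∀ Z : Lev X k, Meets (iSup U) Z.1 → ∃ i, i ∈ t ∧ Meets (U i) Z.1 := by
    rintro Z ⟨x, hxZ, hx⟩
    obtain ⟨i, hi, hxi⟩ := Set.mem_iUnion₂.1 (ht hx)
    exact ⟨i, hi, x, hxZ, hxi⟩
  have hag : ∀ (i j : ι) (Z : Lev X k), Meets (U i) Z.1 → Meets (U j) Z.1 → (sf i).1 Z = (sf j).1 Z := by
    intro i j Z hi hj
    have := congrArg (fun f : fam F k (U i ⊓ U j) => f.1 Z) (hsf i j)
    simp only [famPre] at this
    change (famRes _ _ (sf i)).1 Z = (famRes _ _ (sf j)).1 Z at this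
    rwa [famRes_apply, famRes_apply, if_pos (hi.inf hj), if_pos (hi.inf hj)] at this
  let g : ∀ Z : Lev X k, FZ F Z.1 := fun Z => if h : ∃ i, Meets (U i) Z.1 then (sf h.choose).1 Z else 0
  have hg : ∀ (i : ι) (Z : Lev X k), Meets (U i) Z.1 → g Z = (sf i).1 Z := by
    intro i Z hi
    have h : ∃ i, Meets (U i) Z.1 := ⟨i, hi⟩
    show dite _ _ _ = _
    rw [dif_pos h]
    exact hag _ _ Z h.choose_spec hi
  have hg' : ∀ Z : Lev X k, ¬ Meets (iSup U) Z.1 → g Z = 0 := fun Z hZ =>
    dif_neg fun ⟨i, hi⟩ => hZ (hi.mono (le_iSup U i))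
  have hfin : {Z | g Z ≠ 0}.Finite := by
    refine (t.finite_toSet.biUnion fun i _ => (sf i).2.1).subset fun Z hZ => ?_
    obtain ⟨i, hi, hiZ⟩ := hcov Z (not_not.1 fun hc => hZ (hg' Z hc))
    exact Set.mem_biUnion hi (show (sf i).1 Z ≠ 0 from hg i Z hiZ ▸ hZ)
  refine ⟨⟨g, hfin, hg'⟩, fun i => Subtype.ext (funext fun Z => ?_), fun g' hg'' => Subtype.ext (funext fun Z => ?_)⟩
  · show (famRes _ _ _).1 Z = _
    rw [famRes_apply]
    split_ifs with h
    · exact hg i Z h
    · exact ((sf i).2.2 Z h).symm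
  · show g'.1 Z = g Z
    by_cases h : Meets (iSup U) Z.1
    · obtain ⟨i, -, hi⟩ := hcov Z h
      rw [hg i Z hi, ← hg'' i]
      show _ = (famRes _ _ g').1 Z
      rw [famRes_apply, if_pos hi]
    · rw [hg' Z h]
      exact g'.2.2 Z h

/-- The sheaf of finitely supported families. -/
def famSh : TopCat.Sheaf AddCommGrpCat.{u} X := ⟨famPre F k, isSheaf_famPre F k⟩

instance isFlasque_famSh : TopCat.Sheaf.IsFlasque (famSh F k) where
  epi {U V} i := (AddCommGrpCat.epi_iff_surjective _).2 (famRes_surjective i.unop.le)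

variable {F k}

lemma finite_germ_support (hF : Sp F (k + 1)) (U : Opens X) (s : F.obj.obj (op U)) :
    {Z : Lev X k | ∃ h : Meets U Z.1, germZ F Z.1 U h s ≠ 0}.Finite := by
  let W : Opens X := ⨆ (V : Opens X) (_ : ∃ hle : V ≤ U, F.obj.map (homOfLE hle).op s = 0), V
  obtain ⟨S, hSf, hSc, hSi, hSU⟩ :=
    NoetherianSpace.exists_finite_set_isClosed_irreducible (s := closure ((U : Set X) \ W)) isClosed_closure
  have key : ∀ Z : IrreducibleCloseds X, ∀ h : Meets U Z, germZ F Z U h s ≠ 0 → ¬ Meets W Z := by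
    rintro Z h hne ⟨x, hxZ, hxW⟩
    simp only [W, SetLike.mem_coe, Opens.mem_iSup] at hxW
    obtain ⟨V, ⟨hle, hV⟩, hxV⟩ := hxW
    refine hne ?_
    rw [← germZ_res hle ⟨x, hxZ, hxV⟩ s, hV, map_zero]
  have hsub : ∀ Z ∈ {Z : Lev X k | ∃ h : Meets U Z.1, germZ F Z.1 U h s ≠ 0}, (Z.1 : Set X) ∈ S := by
    rintro Z ⟨h, hne⟩
    have hW := key Z.1 h hne
    have hC : (Z.1 : Set X) ⊆ closure ((U : Set X) \ W) :=
      (subset_closure_inter_of_isPreirreducible_of_isOpen Z.1.isIrreducible.2 U.2 h).trans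
        (closure_mono fun x hx => ⟨hx.2, fun hxW => hW ⟨x, hx.1, hxW⟩⟩)
    obtain ⟨t, htS, hZt⟩ := isIrreducible_iff_sUnion_isClosed.1 Z.1.isIrreducible hSf.toFinset
      (fun z hz => hSc z (hSf.mem_toFinset.1 hz)) (by rw [hSf.coe_toFinset, ← hSU]; exact hC)
    rw [hSf.mem_toFinset] at htS
    let T : IrreducibleCloseds X := ⟨t, hSi t htS, hSc t htS⟩
    have hTU : Meets U T := h.mono_left hZt
    have hne' : germZ F T U hTU s ≠ 0 := by
      intro h0
      obtain ⟨V, hle, ⟨x, hxt, hxV⟩, hV⟩ := germZ_eq_zero h0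
      have hxC : x ∈ closure ((U : Set X) \ W) := hSU ▸ Set.mem_sUnion.2 ⟨t, htS, hxt⟩
      obtain ⟨y, hyV, hyU, hyW⟩ := mem_closure_iff.1 hxC (V : Set X) V.2 hxV
      apply hyW
      simp only [W, SetLike.mem_coe, Opens.mem_iSup]
      exact ⟨V, ⟨hle, hV⟩, hyV⟩
    have hle : Z.1 ≤ T := hZt
    have : Z.1 = T := by
      by_contra hne2
      have hlt := Order.height_strictMono (lt_of_le_of_ne hle hne2) (by rw [Z.2]; exact ENat.coe_lt_top k)
      rw [Z.2] at hlt
      refine hne' (hF T ?_ U hTU s)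
      exact Order.add_one_le_of_lt hlt
    rw [this]
    exact htS
  exact Set.Finite.of_finite_image (hSf.subset (Set.image_subset_iff.2 hsub))
    fun Z _ Z' _ e => Subtype.ext (SetLike.coe_injective e)

open Classical in
/-- The map to germs. -/
def famApp (hF : Sp F (k + 1)) (U : Opens X) : F.obj.obj (op U) →+ fam F k U where
  toFun s := ⟨fun Z => if h : Meets U Z.1 then germZ F Z.1 U h s else 0,
    (finite_germ_support hF U s).subset fun Z hZ => by
      by_cases h : Meets U Z.1
      · exact ⟨h, by simpa [h] using hZ⟩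
      · exact absurd (dif_neg h) hZ,
    fun Z hZ => dif_neg hZ⟩
  map_zero' := Subtype.ext (funext fun Z => by
    by_cases h : Meets U Z.1 <;> simp [h])
  map_add' s t := Subtype.ext (funext fun Z => by
    by_cases h : Meets U Z.1 <;> simp [h])

open Classical in
lemma famApp_apply (hF : Sp F (k + 1)) (U : Opens X) (s : F.obj.obj (op U)) (Z : Lev X k) :
    (famApp hF U s).1 Z = if h : Meets U Z.1 then germZ F Z.1 U h s else 0 := rfl

/-- The comparison with the finitely supported families. -/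
def toFam (hF : Sp F (k + 1)) : F ⟶ famSh F k :=
  ⟨{ app := fun U => AddCommGrpCat.ofHom (famApp hF U.unop)
     naturality := fun U V i => by
      ext s
      refine Subtype.ext (funext fun Z => ?_)
      show (famApp hF V.unop (F.obj.map i s)).1 Z = (famRes U.unop V.unop (famApp hF U.unop s)).1 Z
      rw [famApp_apply, famRes_apply, famApp_apply]
      split_ifs with h1 h2
      · exact germZ_res i.unop.le h1 s
      · exact absurd (h1.mono i.unop.le) h2
      · rfl }⟩

lemma toFam_app (hF : Sp F (k + 1)) (U : Opens X) (s : F.obj.obj (op U)) :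
    (toFam hF).hom.app (op U) s = famApp hF U s := rfl

end Groth.Agent.GrothVan
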