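import Groth.Prelude.Def_CohTop
import Groth.Agent.GrothVan.Generic
import Groth.Agent.LocZLib.Flasque
import Groth.Agent.CohBase.Push

/-!
# Grothendieck's vanishing theorem for Noetherian spaces
-/

set_option autoImplicit false
set_option backward.isDefEq.respectTransparency false
set_option linter.style.haveILetI false

universe u

open CategoryTheory CategoryTheory.Limits TopologicalSpace Opposite CategoryTheory.Abelian

noncomputable section

namespace Groth.Agent.GrothVan

variable {X : TopCat.{u}}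

lemma mono_app {A B : CohTop.Ab X} (φ : A ⟶ B) [Mono φ] (U : Opens X) :
    Function.Injective (φ.hom.app (op U)) :=
  (AddCommGrpCat.mono_iff_injective _).1
    (inferInstanceAs (Mono (((sheafToPresheaf _ _ ⋙ (evaluation _ _).obj (op U))).map φ)))

lemma exists_local_preimage {A B : CohTop.Ab X} (φ : A ⟶ B) [Epi φ] (U : Opens X) (b : B.obj.obj (op U))
    {x : X} (hx : x ∈ U) : ∃ (V : Opens X) (hle : V ≤ U) (a : A.obj.obj (op V)),
      x ∈ V ∧ φ.hom.app (op V) a = B.obj.map (homOfLE hle).op b := by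
  haveI : Sheaf.IsLocallySurjective φ :=
    (Sheaf.isLocallySurjective_iff_epi' AddCommGrpCat.{u} φ).mpr inferInstance
  obtain ⟨V, j, ⟨a, ha⟩, hxV⟩ := Presheaf.imageSieve_mem (Opens.grothendieckTopology X) φ.hom (U := op U) b x hx
  exact ⟨V, leOfHom j, a, hxV, ha⟩

variable {F : CohTop.Ab X} {k : ℕ}

lemma eq_zero_of_sp (hF : Sp F 0) : IsZero F := by
  rw [IsZero.iff_id_eq_zero]
  ext U s
  obtain ⟨U⟩ := U
  choose V hle hV hs using fun x : U =>
    germZ_eq_zero (hF (pt x.1) zero_le U (meets_pt.2 x.2) s)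
  refine TopCat.Sheaf.eq_of_locally_eq' F V U (fun x => homOfLE (hle x))
    (fun x hx => Opens.mem_iSup.2 ⟨⟨x, hx⟩, meets_pt.1 (hV ⟨x, hx⟩)⟩) _ _ fun x => ?_
  refine (hs x).trans ?_
  exact (map_zero _).symm

lemma subsingleton_of_isZero (hF : IsZero F) (p : ℕ) : Subsingleton (CohTop.H F p) := by
  haveI : Subsingleton (CohBase.HU (⊤ : Opens X) F p) :=
    subsingleton_of_forall_eq 0 fun x => by
      rw [← Ext.comp_mk₀_id x, hF.eq_of_src (𝟙 F) 0, Ext.mk₀_zero, Ext.comp_zero]
  exact (CohBase.HEquiv F p).toEquiv.subsingleton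

variable [NoetherianSpace X] (hF : Sp F (k + 1))

/-- The kernel of the comparison. -/
abbrev kerFam : CohTop.Ab X := kernel (toFam hF)

/-- The image of the comparison. -/
abbrev imFam : CohTop.Ab X := cokernel (kernel.ι (toFam hF))

/-- The comparison on the image. -/
abbrev imFamι : imFam hF ⟶ famSh F k := Abelian.factorThruCoimage (toFam hF)

lemma sp_kerFam : Sp (kerFam hF) k := by
  intro Z hZ U h s
  let ι := kernel.ι (toFam hF)
  let f := ι.hom.app (op U) s
  have h0 : germZ F Z U h f = 0 := by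
    rcases hZ.eq_or_lt with he | hlt
    · have e : famApp hF U f = 0 := by
        rw [← toFam_app]
        show (ι ≫ toFam hF).hom.app (op U) s = 0
        rw [kernel.condition]
        rfl
      have e2 := congrArg (fun t : fam F k U => t.1 ⟨Z, he.symm⟩) e
      simp only [famApp_apply, dif_pos h] at e2
      exact e2
    · exact hF Z (Order.add_one_le_of_lt hlt) U h f
  obtain ⟨V, hle, hV, hs⟩ := germZ_eq_zero h0
  rw [← germZ_res hle hV s]
  have : (kerFam hF).obj.map (homOfLE hle).op s = 0 := mono_app ι V (by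
    rw [map_zero]
    exact (NatTrans.naturality_apply ι.hom _ s).trans hs)
  rw [this, map_zero]

open Classical in
lemma sp_coker : Sp (cokernel (imFamι hF)) k := by
  intro Z hZ U h c
  obtain ⟨x, hxZ, hxU⟩ := h
  let π := cokernel.π (imFamι hF)
  obtain ⟨V, hle, g, hxV, hg⟩ := exists_local_preimage π U c hxU
  have hVZ : Meets V Z := ⟨x, hxZ, hxV⟩
  rw [← germZ_res hle hVZ c, ← hg, ← mapZ_germZ]
  -- shrink so that the only relevant set is `Z`
  have shrink : ∀ (V : Opens X), Meets V Z → ∀ (T : Set (Lev X k)), T.Finite →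
      ∃ (V' : Opens X), V' ≤ V ∧ Meets V' Z ∧ ∀ Z' ∈ T, Z'.1 ≠ Z → ¬ Meets V' Z'.1 := by
    intro V hV T hT
    let C : Set X := ⋃ Z' ∈ {Z' ∈ T | Z'.1 ≠ Z}, (Z'.1 : Set X)
    have hC : IsClosed C := (hT.subset fun _ h => h.1).isClosed_biUnion fun Z' _ => Z'.1.isClosed
    refine ⟨V ⊓ ⟨Cᶜ, hC.isOpen_compl⟩, inf_le_left, hV.inf ?_, fun Z' hZ' hne ⟨y, hy, hy'⟩ =>
      hy'.2 (Set.mem_biUnion ⟨hZ', hne⟩ hy)⟩
    by_contra hc
    have hsub : (Z : Set X) ⊆ C := fun y hy => by
      by_contra hyC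
      exact hc ⟨y, hy, hyC⟩
    obtain ⟨t, ht, hZt⟩ := isIrreducible_iff_sUnion_isClosed.1 Z.isIrreducible
      ((hT.subset fun _ (h : _ ∈ T ∧ _) => h.1).image fun Z' : Lev X k => (Z'.1 : Set X)).toFinset
      (fun z hz => by
        obtain ⟨Z', -, rfl⟩ := (Set.Finite.mem_toFinset _).1 hz
        exact Z'.1.isClosed)
      (by
        rw [Set.Finite.coe_toFinset, Set.sUnion_image]
        exact hsub)
    obtain ⟨Z', ⟨-, hne⟩, rfl⟩ := (Set.Finite.mem_toFinset _).1 ht
    have hle : Z ≤ Z'.1 := hZt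
    have hlt := Order.height_strictMono (lt_of_le_of_ne hle hne.symm)
      (lt_of_le_of_lt ((Order.height_mono hle).trans Z'.2.le) (ENat.coe_lt_top k))
    rw [Z'.2] at hlt
    exact absurd (hZ.trans_lt hlt) (lt_irrefl _)
  obtain ⟨V', hV'V, hV'Z, hV'⟩ := shrink V hVZ _ g.2.1
  rw [← germZ_res hV'V hV'Z g]
  rcases hZ.eq_or_lt with he | hlt
  · let Z₀ : Lev X k := ⟨Z, he.symm⟩
    obtain ⟨W, hW, t, ht⟩ := germZ_exists (g.1 Z₀)
    obtain ⟨V'', hV''le, hV''Z, hV''⟩ := shrink (V' ⊓ W) (hV'Z.inf hW) _ (famApp hF W t).2.1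
    rw [← germZ_res (hV''le.trans inf_le_left) hV''Z]
    have e : (famSh F k).obj.map (homOfLE (hV''le.trans inf_le_left)).op ((famSh F k).obj.map (homOfLE hV'V).op g) =
        (toFam hF).hom.app (op V'') (F.obj.map (homOfLE (hV''le.trans inf_le_right)).op t) := by
      refine Subtype.ext (funext fun Z' => ?_)
      show (famRes _ _ (famRes _ _ g)).1 Z' = (famApp hF V'' _).1 Z'
      rw [famRes_apply, famRes_apply, famApp_apply]
      by_cases hm : Meets V'' Z'.1
      · have hm' : Meets V' Z'.1 := hm.mono (hV''le.trans inf_le_left)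
        rw [if_pos hm, if_pos hm', dif_pos hm, germZ_res]
        by_cases hz : Z'.1 = Z
        · obtain rfl : Z' = Z₀ := Subtype.ext hz
          exact ht.symm
        · have h1 : g.1 Z' = 0 := not_not.1 fun hne => hV' Z' hne hz hm'
          have h2 : (famApp hF W t).1 Z' = 0 := not_not.1 fun hne => hV'' Z' hne hz hm
          rw [famApp_apply, dif_pos (hm.mono (hV''le.trans inf_le_right))] at h2
          rw [h1, h2]
      · rw [if_neg hm, dif_neg hm]
    rw [mapZ_germZ]
    refine Eq.trans (congrArg _ ((congrArg (π.hom.app (op V'')) e).trans ?_)) (map_zero _)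
    show (toFam hF ≫ π).hom.app (op V'') _ = 0
    rw [show toFam hF ≫ π = 0 by
      rw [← cokernel.π_desc (kernel.ι (toFam hF)) (toFam hF) (kernel.condition _)]
      show (cokernel.π _ ≫ imFamι hF) ≫ π = 0
      rw [Category.assoc, cokernel.condition, comp_zero]]
    rfl
  · have e : (famSh F k).obj.map (homOfLE hV'V).op g = 0 := by
      refine Subtype.ext (funext fun Z' => ?_)
      show (famRes _ _ g).1 Z' = 0
      rw [famRes_apply]
      split_ifs with hm
      · refine not_not.1 fun hne => hV' Z' hne (fun hz => ?_) hm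
        rw [← hz, Z'.2] at hlt
        exact lt_irrefl _ hlt
      · rfl
    rw [e, map_zero, map_zero]

/-- The vanishing. -/
theorem subsingleton_H : ∀ (k : ℕ) (F : CohTop.Ab X), Sp F k → ∀ p, k ≤ p → Subsingleton (CohTop.H F p)
  | 0, F, hF, p, _ => subsingleton_of_isZero (eq_zero_of_sp hF) p
  | k + 1, F, hF, p, hp => by
    obtain ⟨q, rfl⟩ : ∃ q, p = q + 1 := ⟨p - 1, by omega⟩
    let Hm := fun (A : CohTop.Ab X) (n : ℕ) => Sheaf.H.{u} A n
    haveI := subsingleton_H k _ (sp_kerFam hF) (q + 1) (by omega)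
    haveI := subsingleton_H k _ (sp_coker hF) q (by omega)
    haveI : TopCat.Sheaf.IsFlasque (famSh F k) := inferInstance
    haveI : Subsingleton (Sheaf.H.{u} (famSh F k) (q + 1)) :=
      haveI : Subsingleton (CohBase.HU (⊤ : Opens X) (famSh F k) (q + 1)) := LocZLib.subsingleton_HU_flasque (⊤ : Opens X) q (famSh F k)
      (CohBase.HEquiv (famSh F k) (q + 1)).toEquiv.subsingleton
    let S₁ := ShortComplex.mk (kernel.ι (toFam hF)) (cokernel.π (kernel.ι (toFam hF))) (cokernel.condition _)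
    let S₂ := ShortComplex.mk (imFamι hF) (cokernel.π (imFamι hF)) (cokernel.condition _)
    have hS₁ : S₁.ShortExact :=
      { exact := ShortComplex.exact_of_g_is_cokernel _ (cokernelIsCokernel _) }
    have hS₂ : S₂.ShortExact :=
      { exact := ShortComplex.exact_of_g_is_cokernel _ (cokernelIsCokernel _) }
    haveI hI : Subsingleton (Sheaf.H.{u} (imFam hF) (q + 1)) := by
      refine subsingleton_of_forall_eq 0 fun x => ?_
      obtain ⟨w, hw⟩ := Ext.covariant_sequence_exact₁ _ hS₂ x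
        (Subsingleton.elim (α := Sheaf.H.{u} (famSh F k) (q + 1)) _ _) rfl
      rw [← hw, Subsingleton.elim (α := Sheaf.H.{u} (cokernel (imFamι hF)) q) w 0, Ext.zero_comp]
    refine subsingleton_of_forall_eq 0 fun x => ?_
    obtain ⟨w, hw⟩ := Ext.covariant_sequence_exact₂ _ hS₁ x
      (Subsingleton.elim (α := Sheaf.H.{u} (imFam hF) (q + 1)) _ _)
    rw [← hw, Subsingleton.elim (α := Sheaf.H.{u} (kerFam hF) (q + 1)) w 0, Ext.zero_comp]

/-- Grothendieck's vanishing theorem. -/
theorem subsingleton_H_of_dim_le {d : ℕ} (hd : topologicalKrullDim X ≤ d) (F : CohTop.Ab X) {p : ℕ} (hp : d < p) :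
    Subsingleton (CohTop.H F p) := by
  refine subsingleton_H (d + 1) F (fun Z hZ => absurd hZ ?_) p hp
  have h := (Order.height_le_krullDim Z).trans hd
  intro hc
  have h2 := (WithBot.coe_le_coe.2 hc).trans h
  have : ((d + 1 : ℕ) : ℕ∞) ≤ (d : ℕ∞) := WithBot.coe_le_coe.1 h2
  exact absurd (ENat.coe_le_coe.1 this) (by omega)

end Groth.Agent.GrothVan
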