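import Mathlib

/-!
# Germs of sheaves along irreducible closed subsets
-/

set_option autoImplicit false
set_option backward.isDefEq.respectTransparency false

universe u

open CategoryTheory CategoryTheory.Limits TopologicalSpace Opposite

noncomputable section

namespace Groth.Agent.GrothVan

variable {X : TopCat.{u}}

/-- An open meets an irreducible closed set. -/
def Meets (U : Opens X) (Z : IrreducibleCloseds X) : Prop := ((Z : Set X) ∩ U).Nonempty

lemma Meets.mono {U V : Opens X} {Z : IrreducibleCloseds X} (h : Meets V Z) (hle : V ≤ U) : Meets U Z :=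
  Set.Nonempty.mono (Set.inter_subset_inter_right _ hle) h

lemma Meets.mono_left {U : Opens X} {Z Z' : IrreducibleCloseds X} (h : Meets U Z) (hle : Z ≤ Z') : Meets U Z' :=
  Set.Nonempty.mono (Set.inter_subset_inter_left _ hle) h

lemma Meets.inf {U V : Opens X} {Z : IrreducibleCloseds X} (hU : Meets U Z) (hV : Meets V Z) : Meets (U ⊓ V) Z :=
  Z.isIrreducible.2 U V U.2 V.2 hU hV

variable (X) in
/-- The space of irreducible closed subsets. -/
def Sob : Type u := IrreducibleCloseds X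

instance : TopologicalSpace (Sob X) where
  IsOpen S := ∃ U : Opens X, S = {Z : IrreducibleCloseds X | Meets U Z}
  isOpen_univ := ⟨⊤, by
    ext Z
    simp only [Set.mem_univ, Set.mem_setOf_eq, true_iff]
    obtain ⟨x, hx⟩ := (Z : IrreducibleCloseds X).isIrreducible.nonempty
    exact ⟨x, hx, trivial⟩⟩
  isOpen_inter S T := by
    rintro ⟨U, rfl⟩ ⟨V, rfl⟩
    exact ⟨U ⊓ V, Set.ext fun Z => ⟨fun h => h.1.inf h.2, fun h => ⟨h.mono inf_le_left, h.mono inf_le_right⟩⟩⟩
  isOpen_sUnion C hC := by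
    choose U hU using hC
    refine ⟨⨆ (S : Set (Sob X)) (hS : S ∈ C), U S hS, Set.ext fun Z => ⟨?_, ?_⟩⟩
    · rintro ⟨S, hS, hZ⟩
      rw [hU S hS] at hZ
      exact Meets.mono hZ (le_iSup₂ (f := fun S hS => U S hS) S hS)
    · rintro ⟨x, hx, hx'⟩
      simp only [SetLike.mem_coe, Opens.mem_iSup] at hx'
      obtain ⟨S, hS, hxS⟩ := hx'
      exact ⟨S, hS, by rw [hU S hS]; exact ⟨x, hx, hxS⟩⟩

/-- The irreducible closed set of a point. -/
def pt (x : X) : IrreducibleCloseds X := ⟨closure {x}, isIrreducible_singleton.closure, isClosed_closure⟩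

lemma meets_pt {U : Opens X} {x : X} : Meets U (pt x) ↔ x ∈ U := by
  refine ⟨fun ⟨y, hy, hyU⟩ => ?_, fun h => ⟨x, subset_closure rfl, h⟩⟩
  obtain ⟨z, hzU, rfl⟩ := mem_closure_iff.mp hy (U : Set X) U.2 hyU
  exact hzU

variable (X) in
/-- The canonical map. -/
def toSob : X ⟶ TopCat.of (Sob X) :=
  TopCat.ofHom ⟨fun x => pt x, continuous_def.mpr fun S ⟨U, hS⟩ => by
    subst hS
    convert U.2 using 1
    ext x
    exact meets_pt⟩

/-- The open set of irreducible closed sets meeting `U`. -/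
def meetsO (U : Opens X) : Opens (TopCat.of (Sob X)) := ⟨{Z : IrreducibleCloseds X | Meets U Z}, ⟨U, rfl⟩⟩

lemma exists_meetsO (W : Opens (TopCat.of (Sob X))) : ∃ U : Opens X, W = meetsO U := by
  obtain ⟨U, hU⟩ := W.2
  exact ⟨U, Opens.ext hU⟩

lemma map_meetsO (U : Opens X) : (Opens.map (toSob X)).obj (meetsO U) = U :=
  Opens.ext (Set.ext fun _ => meets_pt)

variable (F : TopCat.Sheaf AddCommGrpCat.{u} X) (Z : IrreducibleCloseds X)

/-- The stalk along an irreducible closed set. -/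
def FZ : AddCommGrpCat.{u} :=
  ((TopCat.Presheaf.pushforward AddCommGrpCat.{u} (toSob X)).obj F.obj).stalk (show TopCat.of (Sob X) from Z)

/-- The germ along `Z`. -/
def germZ (U : Opens X) (h : Meets U Z) : F.obj.obj (op U) ⟶ FZ F Z :=
  F.obj.map (homOfLE (map_meetsO U).le).op ≫
    ((TopCat.Presheaf.pushforward AddCommGrpCat.{u} (toSob X)).obj F.obj).germ (meetsO U) _ h

variable {F Z}

lemma germZ_res {U V : Opens X} (hle : V ≤ U) (h : Meets V Z) (s : F.obj.obj (op U)) :
    germZ F Z V h (F.obj.map (homOfLE hle).op s) = germZ F Z U (h.mono hle) s := by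
  have hle' : meetsO V ≤ meetsO U := fun W hW => Meets.mono hW hle
  show (F.obj.map _ ≫ F.obj.map _ ≫ _) s = (F.obj.map _ ≫ _) s
  rw [← TopCat.Presheaf.germ_res ((TopCat.Presheaf.pushforward AddCommGrpCat.{u} (toSob X)).obj F.obj)
    (homOfLE hle') _ h, ← Category.assoc, ← Category.assoc, ← Functor.map_comp]
  congr 2
  rw [TopCat.Presheaf.pushforward_obj_map, ← Functor.map_comp]
  rfl

lemma germZ_exists (t : FZ F Z) : ∃ (U : Opens X) (h : Meets U Z) (s : F.obj.obj (op U)), germZ F Z U h s = t := by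
  obtain ⟨W, hW, s, rfl⟩ := TopCat.Presheaf.exists_germ_eq _ t
  obtain ⟨U, rfl⟩ := exists_meetsO W
  refine ⟨U, hW, F.obj.map (homOfLE (map_meetsO U).ge).op s, ?_⟩
  show ((F.obj.map _ ≫ F.obj.map _) ≫ _) s = _
  rw [← Functor.map_comp]
  erw [Subsingleton.elim ((homOfLE (map_meetsO U).ge).op ≫ (homOfLE (map_meetsO U).le).op) (𝟙 _),
    CategoryTheory.Functor.map_id]
  rfl

lemma germZ_eq_zero {U : Opens X} {h : Meets U Z} {s : F.obj.obj (op U)} (hs : germZ F Z U h s = 0) :
    ∃ (V : Opens X) (hle : V ≤ U), Meets V Z ∧ F.obj.map (homOfLE hle).op s = 0 := by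
  let P := (TopCat.Presheaf.pushforward AddCommGrpCat.{u} (toSob X)).obj F.obj
  let s' := F.obj.map (homOfLE (map_meetsO U).le).op s
  have hs' : P.germ (meetsO U) _ h s' = P.germ (meetsO U) _ h 0 := by
    rw [map_zero]
    exact hs
  obtain ⟨W, hW, i, j, e⟩ := P.germ_eq _ h h s' 0 hs'
  obtain ⟨V, rfl⟩ := exists_meetsO W
  have hle : V ≤ U := by
    rw [← map_meetsO V, ← map_meetsO U]
    exact fun x hx => i.le hx
  refine ⟨V, hle, hW, ?_⟩
  rw [map_zero] at e
  have e2 := congrArg (F.obj.map (homOfLE (map_meetsO V).ge).op) e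
  rw [map_zero] at e2
  refine Eq.trans ?_ e2
  show _ = (F.obj.map _ ≫ F.obj.map _ ≫ F.obj.map _) s
  rw [← Functor.map_comp, ← Functor.map_comp]
  rfl

/-- The map on stalks along `Z`. -/
def mapZ {G : TopCat.Sheaf AddCommGrpCat.{u} X} (φ : F ⟶ G) (Z : IrreducibleCloseds X) : FZ F Z ⟶ FZ G Z :=
  (TopCat.Presheaf.stalkFunctor AddCommGrpCat.{u} _).map
    ((TopCat.Presheaf.pushforward AddCommGrpCat.{u} (toSob X)).map φ.hom)

lemma mapZ_germZ {G : TopCat.Sheaf AddCommGrpCat.{u} X} (φ : F ⟶ G) {U : Opens X} (h : Meets U Z)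
    (s : F.obj.obj (op U)) : mapZ φ Z (germZ F Z U h s) = germZ G Z U h (φ.hom.app (op U) s) := by
  refine (TopCat.Presheaf.stalkFunctor_map_germ_apply _ _ h _ _).trans ?_
  show _ = (G.obj.map _ ≫ _) _
  refine congrArg (((TopCat.Presheaf.pushforward AddCommGrpCat.{u} (toSob X)).obj G.obj).germ (meetsO U) _ h) ?_
  exact NatTrans.naturality_apply φ.hom _ s

end Groth.Agent.GrothVan
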